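import Groth.Agent.Lib.FibreFlat.InjLocal
import Groth.Agent.Lib.FlatModel.Descent
import Groth.Agent.Lib.FibreFlat.StalkAlg
import Mathlib

/-!
# Injectivity with flat cokernel is detected on the fibres (global form)
-/

set_option autoImplicit false
universe u

open IsLocalRing TensorProduct Function

namespace GrothLib.AffRelExt22

variable {A B : Type u} [CommRing A] [CommRing B] [Algebra A B]

/-- Elements of `J • N_q` vanish in the fibre after multiplying by an element outside `q`. -/
theorem exists_tmul_one_eq_zero {N : Type u} [AddCommGroup N] [Module B N] [Module A N] [IsScalarTower A B N]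
    (q : Ideal B) [q.IsPrime] (p : Ideal A) [p.IsPrime] (y : LocalizedModule q.primeCompl N)
    (hy : y ∈ p • (⊤ : Submodule A (LocalizedModule q.primeCompl N))) :
    ∃ (s : B) (n : N), s ∈ q.primeCompl ∧ s • y = LocalizedModule.mkLinearMap q.primeCompl N n ∧
      n ⊗ₜ[A] (1 : p.ResidueField) = 0 := by
  refine Submodule.smul_induction_on hy (fun a ha w _ => ?_) fun y₁ y₂ h₁ h₂ => ?_
  · obtain ⟨⟨n, t⟩, hn⟩ := IsLocalizedModule.surj q.primeCompl (LocalizedModule.mkLinearMap q.primeCompl N) w
    refine ⟨t, a • n, t.2, ?_, ?_⟩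
    · rw [LinearMap.map_smul_of_tower, ← hn, smul_comm]
      rfl
    · rw [← TensorProduct.smul_tmul', ← TensorProduct.tmul_smul, Algebra.smul_def,
        Ideal.algebraMap_residueField_eq_zero.2 ha, zero_mul, TensorProduct.tmul_zero]
  · obtain ⟨s₁, n₁, hs₁, e₁, z₁⟩ := h₁
    obtain ⟨s₂, n₂, hs₂, e₂, z₂⟩ := h₂
    refine ⟨s₂ * s₁, s₂ • n₁ + s₁ • n₂, mul_mem hs₂ hs₁, ?_, ?_⟩
    · rw [map_add, map_smul, map_smul, ← e₁, ← e₂, smul_add, smul_smul, smul_smul, mul_comm s₁ s₂]
    · rw [TensorProduct.add_tmul, ← TensorProduct.smul_tmul', ← TensorProduct.smul_tmul', z₁, z₂,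
        smul_zero, smul_zero, add_zero]

set_option maxHeartbeats 1000000 in
/-- The local statement at a prime `q`. -/
theorem injective_flat_coker_at [Algebra.FinitePresentation A B] {M N : Type u} [AddCommGroup M] [Module B M] [Module A M]
    [IsScalarTower A B M] [Module.FinitePresentation B M] [AddCommGroup N] [Module B N] [Module A N] [IsScalarTower A B N]
    [Module.FinitePresentation B N] [Module.Flat A N] (u : M →ₗ[B] N)
    (hu : ∀ p : PrimeSpectrum A, Injective ((u.restrictScalars A).rTensor p.asIdeal.ResidueField))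
    (q : Ideal B) [q.IsPrime] :
    Injective (LocalizedModule.map q.primeCompl u) ∧
      Module.Flat A (LocalizedModule q.primeCompl (N ⧸ LinearMap.range u)) := by
  let p := q.comap (algebraMap A B)
  let R := Localization.AtPrime p
  let S := Localization.AtPrime q
  letI : Algebra R S := (Localization.localRingHom p q (algebraMap A B) rfl).toAlgebra
  haveI : IsScalarTower A R S := IsScalarTower.of_algebraMap_eq fun a => by
    rw [IsScalarTower.algebraMap_apply A B S]
    exact (Localization.localRingHom_to_map p q (algebraMap A B) rfl a).symm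
  haveI : IsLocalHom (algebraMap R S) := Localization.isLocalHom_localRingHom p q (algebraMap A B) rfl
  have hS : CAlgX.IsEssFinitePresentation R S :=
    @FibreFlat.isEssFinitePresentation_localization A R B S _ _ _ _ _ _ _ _ _ _ _ p.primeCompl _ q.primeCompl _ _
  let Mq := LocalizedModule q.primeCompl M
  let Nq := LocalizedModule q.primeCompl N
  letI : Module R Mq := Module.compHom Mq (algebraMap R S)
  haveI : IsScalarTower R S Mq := IsScalarTower.of_algebraMap_smul fun _ _ => rfl
  letI : Module R Nq := Module.compHom Nq (algebraMap R S)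
  haveI : IsScalarTower R S Nq := IsScalarTower.of_algebraMap_smul fun _ _ => rfl
  haveI : IsScalarTower A R Nq := IsScalarTower.of_algebraMap_smul fun a x => by
    show algebraMap R S (algebraMap A R a) • x = a • x
    rw [← IsScalarTower.algebraMap_apply A R S, IsScalarTower.algebraMap_apply A B S, algebraMap_smul, algebraMap_smul]
  haveI : IsScalarTower A S Nq := IsScalarTower.of_algebraMap_smul fun a x => by
    rw [IsScalarTower.algebraMap_apply A B S, algebraMap_smul, algebraMap_smul]
  haveI : Module.FinitePresentation S Mq :=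
    FinitePresentation.of_isBaseChange (LocalizedModule.mkLinearMap q.primeCompl M)
      (IsLocalizedModule.isBaseChange q.primeCompl S (LocalizedModule.mkLinearMap q.primeCompl M))
  haveI : Module.FinitePresentation S Nq :=
    FinitePresentation.of_isBaseChange (LocalizedModule.mkLinearMap q.primeCompl N)
      (IsLocalizedModule.isBaseChange q.primeCompl S (LocalizedModule.mkLinearMap q.primeCompl N))
  haveI : Module.Flat A Nq := FlatModel.flat_localizedModule _
  haveI : Module.Flat R Nq := (Module.flat_iff_of_isLocalization R p.primeCompl Nq).2 inferInstance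
  let J : Ideal S := (maximalIdeal R).map (algebraMap R S)
  have hJ : J = p.map (algebraMap A S) := by
    show (maximalIdeal R).map (algebraMap R S) = _
    rw [← Localization.AtPrime.map_eq_maximalIdeal, Ideal.map_map, ← IsScalarTower.algebraMap_eq]
  -- the map from the fibre
  have hσ₁ : p ≤ RingHom.ker (algebraMap A (S ⧸ J)) := fun a ha => by
    rw [RingHom.mem_ker, IsScalarTower.algebraMap_apply A S (S ⧸ J), Ideal.Quotient.algebraMap_eq,
      Ideal.Quotient.eq_zero_iff_mem, hJ]
    exact Ideal.mem_map_of_mem _ ha
  have hσ₂ : p.primeCompl ≤ (IsUnit.submonoid (S ⧸ J)).comap (algebraMap A (S ⧸ J)) := fun a ha => by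
    show IsUnit _
    rw [IsScalarTower.algebraMap_apply A B (S ⧸ J), IsScalarTower.algebraMap_apply B S (S ⧸ J)]
    exact (IsLocalization.map_units S (⟨algebraMap A B a, ha⟩ : q.primeCompl)).map _
  let σ : p.ResidueField →ₐ[A] S ⧸ J := Ideal.ResidueField.liftₐ p (Algebra.ofId A (S ⧸ J)) hσ₁ hσ₂
  let lM : M →ₗ[A] Mq := (LocalizedModule.mkLinearMap q.primeCompl M).restrictScalars A
  have hback : ∀ m : M, m ⊗ₜ[A] (1 : p.ResidueField) = 0 →
      LocalizedModule.mkLinearMap q.primeCompl M m ∈ J • (⊤ : Submodule S Mq) := by
    intro m hm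
    let Q := (S ⧸ J) ⊗[S] Mq
    let ψ : M ⊗[A] p.ResidueField →+ Q :=
      TensorProduct.liftAddHom
        { toFun := fun m =>
            { toFun := fun c => σ c ⊗ₜ[S] lM m
              map_zero' := by rw [map_zero, TensorProduct.zero_tmul]
              map_add' := fun c d => by rw [map_add, TensorProduct.add_tmul] }
          map_zero' := AddMonoidHom.ext fun c => by
            show σ c ⊗ₜ[S] lM 0 = 0
            rw [map_zero, TensorProduct.tmul_zero]
          map_add' := fun m n => AddMonoidHom.ext fun c => by
            show σ c ⊗ₜ[S] lM (m + n) = σ c ⊗ₜ[S] lM m + σ c ⊗ₜ[S] lM n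
            rw [map_add, TensorProduct.tmul_add] }
        fun a m c => by
          show σ c ⊗ₜ[S] lM (a • m) = σ (a • c) ⊗ₜ[S] lM m
          rw [map_smul, map_smul, ← algebraMap_smul S a (σ c), TensorProduct.smul_tmul]
          congr 1
          show a • LocalizedModule.mkLinearMap q.primeCompl M m = algebraMap A S a • LocalizedModule.mkLinearMap q.primeCompl M m
          rw [IsScalarTower.algebraMap_apply A B S, algebraMap_smul, algebraMap_smul]
    have h0 : ψ (m ⊗ₜ[A] (1 : p.ResidueField)) = 0 := by rw [hm, map_zero]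
    have h1 : (1 : S ⧸ J) ⊗ₜ[S] LocalizedModule.mkLinearMap q.primeCompl M m = 0 := by
      have h2 : σ 1 ⊗ₜ[S] lM m = 0 := h0
      rwa [map_one] at h2
    have h3 := congrArg (TensorProduct.quotTensorEquivQuotSMul Mq J) h1
    rw [← map_one (Ideal.Quotient.mk J), TensorProduct.quotTensorEquivQuotSMul_mk_tmul, one_smul, map_zero] at h3
    exact (Submodule.Quotient.mk_eq_zero _).1 h3
  let uq : Mq →ₗ[S] Nq := LocalizedModule.map q.primeCompl u
  have key : ∀ x : Mq, uq x ∈ J • (⊤ : Submodule S Nq) → x ∈ J • (⊤ : Submodule S Mq) := by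
    intro x hx
    have hx' : uq x ∈ p • (⊤ : Submodule A Nq) := by
      rw [← Submodule.restrictScalars_top A S Nq, ← Ideal.smul_restrictScalars, ← hJ]
      exact hx
    obtain ⟨s, n, hs, hsn, hn⟩ := exists_tmul_one_eq_zero q p _ hx'
    obtain ⟨⟨m, t⟩, hm⟩ := IsLocalizedModule.surj q.primeCompl (LocalizedModule.mkLinearMap q.primeCompl M) x
    have hmap : ∀ m, uq (LocalizedModule.mkLinearMap q.primeCompl M m) = LocalizedModule.mkLinearMap q.primeCompl N (u m) :=
      fun m => IsLocalizedModule.map_apply q.primeCompl (LocalizedModule.mkLinearMap q.primeCompl M)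
        (LocalizedModule.mkLinearMap q.primeCompl N) u m
    have h1 : LocalizedModule.mkLinearMap q.primeCompl N (s • u m) =
        LocalizedModule.mkLinearMap q.primeCompl N ((t : B) • n) := by
      rw [map_smul, map_smul, ← hmap, ← hsn, ← hm, Submonoid.smul_def, LinearMap.map_smul_of_tower, smul_comm]
    obtain ⟨s', hs'⟩ := (IsLocalizedModule.eq_iff_exists q.primeCompl (LocalizedModule.mkLinearMap q.primeCompl N)).1 h1
    have h2 : u ((s' : B) • s • m) ⊗ₜ[A] (1 : p.ResidueField) = 0 := by
      rw [map_smul, map_smul, ← Submonoid.smul_def, hs', Submonoid.smul_def, ← TensorProduct.smul_tmul',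
        ← TensorProduct.smul_tmul', hn, smul_zero, smul_zero]
    have h3 : ((s' : B) • s • m) ⊗ₜ[A] (1 : p.ResidueField) = 0 := by
      apply hu ⟨p, inferInstance⟩
      rw [map_zero]
      exact h2
    have h4 := hback _ h3
    rw [map_smul, map_smul, ← hm, Submonoid.smul_def, smul_smul, smul_smul, ← algebraMap_smul S] at h4
    have hunit : IsUnit (algebraMap B S ((s' : B) * s * (t : B))) :=
      IsLocalization.map_units S (⟨_, mul_mem (mul_mem s'.2 hs) t.2⟩ : q.primeCompl)
    exact (Submodule.smul_mem_iff_of_isUnit _ hunit).1 h4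
  obtain ⟨hinj, hflat⟩ := FibreFlat.injective_flat_coker_local hS uq key
  refine ⟨hinj, ?_⟩
  haveI := hflat
  haveI : Module.Flat A (Nq ⧸ LinearMap.range uq) :=
    (Module.flat_iff_of_isLocalization R p.primeCompl _).1 inferInstance
  have e : (LinearMap.range u).localized q.primeCompl = LinearMap.range uq :=
    LinearMap.localized'_range_eq_range_localizedMap S q.primeCompl
      (LocalizedModule.mkLinearMap q.primeCompl M) (LocalizedModule.mkLinearMap q.primeCompl N) u
  exact Module.Flat.of_linearEquiv
    (((Submodule.quotEquivOfEq _ _ e.symm).trans (localizedQuotientEquiv q.primeCompl (LinearMap.range u))).restrictScalars A).symm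

/-- **Injective on every fibre implies injective with flat cokernel.** -/
theorem injective_flat_coker [Algebra.FinitePresentation A B] {M N : Type u} [AddCommGroup M] [Module B M] [Module A M]
    [IsScalarTower A B M] [Module.FinitePresentation B M] [AddCommGroup N] [Module B N] [Module A N] [IsScalarTower A B N]
    [Module.FinitePresentation B N] [Module.Flat A N] (u : M →ₗ[B] N)
    (hu : ∀ p : PrimeSpectrum A, Injective ((u.restrictScalars A).rTensor p.asIdeal.ResidueField)) :
    Injective u ∧ Module.Flat A (N ⧸ LinearMap.range u) :=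
  ⟨injective_of_localized_maximal u fun P _ => (injective_flat_coker_at u hu P).1,
    Module.flat_of_isLocalized_maximal B (N ⧸ LinearMap.range u) (fun P _ => LocalizedModule P.primeCompl (N ⧸ LinearMap.range u)) (fun P _ => LocalizedModule.mkLinearMap P.primeCompl _) fun P _ => (injective_flat_coker_at u hu P).2⟩

end GrothLib.AffRelExt22
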