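import Groth.Agent.Lib.AffRelExt22.FreeRes
import Groth.Agent.Lib.FlatFP.Resolution
import Groth.Agent.Lib.FlatFP.Syzygy
import Mathlib

/-!
# Restriction of a free resolution to a fibre
-/

set_option autoImplicit false
universe u

open TensorProduct Function

namespace GrothLib.AffRelExt22

attribute [local instance] MvPolynomial.algebraMvPolynomial

/-- The free resolution of a flat finitely presented module. -/
noncomputable def ofFlatFP {A B : Type u} [CommRing A] [CommRing B] [Algebra A B]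
    [Algebra.FinitePresentation A B] [Module.Flat A B] (S : FlatFP.FlatFPMod A B) : FreeRes B S.carrier where
  rk i := (S.syz i).rk
  d := S.dLin
  ε := S.aug
  surj := S.aug_surjective
  exact_zero v := by
    constructor
    · intro hv
      obtain ⟨w, hw⟩ := (S.exact_incl_aug v).1 hv
      obtain ⟨w', rfl⟩ := (S.syz 1).aug_surjective w
      exact ⟨w', hw⟩
    · rintro ⟨w, rfl⟩
      exact S.exact_incl_aug.apply_apply_eq_zero _
  exact_succ i v := by
    constructor
    · intro hv
      have hv' : (S.syz (i + 1)).aug v = 0 := (S.syz i).incl_injective (hv.trans (map_zero _).symm)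
      obtain ⟨w, hw⟩ := ((S.syz (i + 1)).exact_incl_aug v).1 hv'
      obtain ⟨w', rfl⟩ := (S.syz (i + 2)).aug_surjective w
      exact ⟨w', hw⟩
    · rintro ⟨w, rfl⟩
      exact LinearMap.congr_fun (S.dLin_comp i) w

section BaseChange

variable {Q C : Type u} [CommRing Q] [CommRing C] [Algebra Q C]

/-- Base change of a map of finite free modules. -/
noncomputable def bcm (C : Type u) [CommRing C] [Algebra Q C] {a b : ℕ} (f : (Fin a → Q) →ₗ[Q] (Fin b → Q)) :
    (Fin a → C) →ₗ[C] (Fin b → C) :=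
  (piScalarRight Q C C (Fin b)).toLinearMap ∘ₗ f.baseChange C ∘ₗ (piScalarRight Q C C (Fin a)).symm.toLinearMap

theorem piScalarRight_symm_one {a : ℕ} (k : Fin a) :
    (piScalarRight Q C C (Fin a)).symm (Pi.single k 1) = (1 : C) ⊗ₜ (Pi.single k (1 : Q)) := by
  apply (piScalarRight Q C C (Fin a)).injective
  rw [LinearEquiv.apply_symm_apply]
  ext i
  by_cases h : i = k
  · subst h; simp
  · simp [Pi.single_eq_of_ne h]

theorem bcm_single {a b : ℕ} (f : (Fin a → Q) →ₗ[Q] (Fin b → Q)) (k : Fin a) (i : Fin b) :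
    bcm C f (Pi.single k 1) i = algebraMap Q C (f (Pi.single k 1) i) := by
  show (piScalarRight Q C C (Fin b)) (f.baseChange C ((piScalarRight Q C C (Fin a)).symm (Pi.single k 1))) i = _
  rw [piScalarRight_symm_one, LinearMap.baseChange_tmul]
  simp [Algebra.algebraMap_eq_smul_one]

theorem tr_bcm {a b : ℕ} (f : (Fin a → Q) →ₗ[Q] (Fin b → Q)) : tr (bcm C f) = bcm C (tr f) := by
  refine LinearMap.pi_ext' fun i => LinearMap.ext_ring (funext fun k => ?_)
  simp only [LinearMap.comp_apply, LinearMap.coe_single]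
  rw [bcm_single, tr_apply, tr_apply, Finset.sum_eq_single i, Finset.sum_eq_single i]
  · rw [Pi.single_eq_same, Pi.single_eq_same, one_mul, one_mul, bcm_single]
  · intro l _ hl
    rw [Pi.single_eq_of_ne hl, zero_mul]
  · simp
  · intro l _ hl
    rw [Pi.single_eq_of_ne hl, zero_mul]
  · simp

theorem bcm_apply_equiv {a b : ℕ} (f : (Fin a → Q) →ₗ[Q] (Fin b → Q)) (x : C ⊗[Q] (Fin a → Q)) :
    bcm C f (piScalarRight Q C C (Fin a) x) = piScalarRight Q C C (Fin b) (f.baseChange C x) := by
  show (piScalarRight Q C C (Fin b)) (f.baseChange C ((piScalarRight Q C C (Fin a)).symm _)) = _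
  rw [LinearEquiv.symm_apply_apply]

/-- Base change of a free resolution which remains exact. -/
noncomputable def FreeRes.baseChange {M M' : Type u} [AddCommGroup M] [Module Q M] [AddCommGroup M'] [Module C M']
    (R : FreeRes Q M) (e : C ⊗[Q] M ≃ₗ[C] M') (h0 : Exact ((R.d 0).lTensor C) (R.ε.lTensor C))
    (hs : ∀ i, Exact ((R.d (i + 1)).lTensor C) ((R.d i).lTensor C)) : FreeRes C M' where
  rk := R.rk
  d i := bcm C (R.d i)
  ε := e.toLinearMap ∘ₗ R.ε.baseChange C ∘ₗ (piScalarRight Q C C (Fin (R.rk 0))).symm.toLinearMap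
  surj := e.surjective.comp ((LinearMap.lTensor_surjective C R.surj).comp (LinearEquiv.surjective _))
  exact_zero v := by
    obtain ⟨x, rfl⟩ := (piScalarRight Q C C (Fin (R.rk 0))).surjective v
    constructor
    · intro hv
      have h1 : e (R.ε.baseChange C x) = 0 := by
        rw [← (piScalarRight Q C C (Fin (R.rk 0))).symm_apply_apply x]
        exact hv
      obtain ⟨y, hy⟩ := (h0 x).1 (e.map_eq_zero_iff.1 h1)
      exact ⟨piScalarRight Q C C (Fin (R.rk 1)) y, by rw [bcm_apply_equiv]; exact congrArg _ hy⟩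
    · rintro ⟨w, hw⟩
      obtain ⟨y, rfl⟩ := (piScalarRight Q C C (Fin (R.rk 1))).surjective w
      rw [bcm_apply_equiv] at hw
      rw [← hw]
      show e (R.ε.baseChange C ((piScalarRight Q C C (Fin (R.rk 0))).symm _)) = 0
      rw [LinearEquiv.symm_apply_apply]
      show e (R.ε.lTensor C ((R.d 0).lTensor C y)) = 0
      rw [h0.apply_apply_eq_zero, map_zero]
  exact_succ i v := by
    obtain ⟨x, rfl⟩ := (piScalarRight Q C C (Fin (R.rk (i + 1)))).surjective v
    constructor
    · intro hv
      rw [bcm_apply_equiv, LinearEquiv.map_eq_zero_iff] at hv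
      obtain ⟨y, hy⟩ := (hs i x).1 hv
      exact ⟨piScalarRight Q C C (Fin (R.rk (i + 1 + 1))) y, by rw [bcm_apply_equiv]; exact congrArg _ hy⟩
    · rintro ⟨w, hw⟩
      obtain ⟨y, rfl⟩ := (piScalarRight Q C C (Fin (R.rk (i + 1 + 1)))).surjective w
      rw [bcm_apply_equiv] at hw
      rw [← hw, bcm_apply_equiv]
      show piScalarRight Q C C (Fin (R.rk i)) ((R.d i).lTensor C ((R.d (i + 1)).lTensor C y)) = 0
      rw [(hs i).apply_apply_eq_zero, map_zero]

variable {M M' : Type u} [AddCommGroup M] [Module Q M] [AddCommGroup M'] [Module C M']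
    (R : FreeRes Q M) (e : C ⊗[Q] M ≃ₗ[C] M') (h0 : Exact ((R.d 0).lTensor C) (R.ε.lTensor C))
    (hs : ∀ i, Exact ((R.d (i + 1)).lTensor C) ((R.d i).lTensor C))

/-- Vanishing of the dual cohomology on the fibre makes `u` injective on the fibre. -/
theorem FreeRes.injective_lTensor_u (j : ℕ)
    (h : LinearMap.ker ((R.baseChange e h0 hs).δ j) ≤ (R.baseChange e h0 hs).cob j) :
    Injective ((R.u j).lTensor C) := by
  rw [injective_iff_map_eq_zero]
  intro z hz
  obtain ⟨y, rfl⟩ := LinearMap.lTensor_surjective C (R.cob j).mkQ_surjective z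
  rw [← LinearMap.lTensor_comp_apply, FreeRes.u, Submodule.liftQ_mkQ] at hz
  have hy : piScalarRight Q C C (Fin (R.rk j)) y ∈ LinearMap.ker ((R.baseChange e h0 hs).δ j) := by
    show tr (bcm C (R.d j)) (piScalarRight Q C C (Fin (R.rk j)) y) = 0
    rw [tr_bcm, bcm_apply_equiv]
    exact (congrArg _ hz).trans (map_zero _)
  have hy' := h hy
  cases j with
  | zero =>
    have : piScalarRight Q C C (Fin (R.rk 0)) y = 0 := hy'
    rw [(piScalarRight Q C C (Fin (R.rk 0))).map_eq_zero_iff.1 this, map_zero]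
  | succ p =>
    obtain ⟨w, hw⟩ := hy'
    obtain ⟨x, rfl⟩ := (piScalarRight Q C C (Fin (R.rk p))).surjective w
    have hw' : bcm C (tr (R.d p)) (piScalarRight Q C C (Fin (R.rk p)) x) = piScalarRight Q C C (Fin (R.rk (p + 1))) y := by
      rw [← tr_bcm]; exact hw
    rw [bcm_apply_equiv] at hw'
    rw [← (piScalarRight Q C C (Fin (R.rk (p + 1)))).injective hw']
    show ((R.cob (p + 1)).mkQ).lTensor C ((R.δ p).lTensor C x) = 0
    rw [← LinearMap.lTensor_comp_apply]
    have : (R.cob (p + 1)).mkQ ∘ₗ R.δ p = 0 := LinearMap.range_le_ker_iff.1 (by rw [Submodule.ker_mkQ]; rfl)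
    rw [this, LinearMap.lTensor_zero, LinearMap.zero_apply]

end BaseChange

section Poly

variable {A : Type u} [CommRing A] {N : ℕ} (κ : Type u) [CommRing κ] [Algebra A κ]

theorem injective_lTensor_poly_iff {M M' : Type u} [AddCommGroup M] [Module (MvPolynomial (Fin N) A) M] [Module A M]
    [IsScalarTower A (MvPolynomial (Fin N) A) M] [AddCommGroup M'] [Module (MvPolynomial (Fin N) A) M'] [Module A M']
    [IsScalarTower A (MvPolynomial (Fin N) A) M'] (φ : M →ₗ[MvPolynomial (Fin N) A] M') :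
    Injective (φ.lTensor (MvPolynomial (Fin N) κ)) ↔ Injective ((φ.restrictScalars A).lTensor κ) := by
  constructor
  · intro h x y hxy
    obtain ⟨x, rfl⟩ := (FibreFlat.cancel (m := N) (R₀ := A) M κ).surjective x
    obtain ⟨y, rfl⟩ := (FibreFlat.cancel (m := N) (R₀ := A) M κ).surjective y
    rw [← FlatFP.cancel_lTensor φ, ← FlatFP.cancel_lTensor φ] at hxy
    rw [h ((FibreFlat.cancel (m := N) (R₀ := A) M' κ).injective hxy)]
  · intro h x y hxy
    apply (FibreFlat.cancel (m := N) (R₀ := A) M κ).injective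
    apply h
    rw [← FlatFP.cancel_lTensor φ, ← FlatFP.cancel_lTensor φ, hxy]

theorem injective_incl_lTensor [Module.Flat A (MvPolynomial (Fin N) A)] (S : FlatFP.FlatFPMod A (MvPolynomial (Fin N) A)) :
    Injective (S.incl.lTensor (MvPolynomial (Fin N) κ)) :=
  (injective_lTensor_poly_iff κ S.incl).2
    (LinearMap.lTensor_injective_of_exact_of_flat (S.aug.restrictScalars A) S.aug_surjective
      (S.incl.restrictScalars A) S.incl_injective (fun x => S.exact_incl_aug x) κ)

theorem exact_lTensor_zero (S : FlatFP.FlatFPMod A (MvPolynomial (Fin N) A)) :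
    Exact (((ofFlatFP S).d 0).lTensor (MvPolynomial (Fin N) κ)) ((ofFlatFP S).ε.lTensor (MvPolynomial (Fin N) κ)) :=
  lTensor_exact _ (ofFlatFP S).exact_zero (ofFlatFP S).surj

theorem exact_lTensor_succ (S : FlatFP.FlatFPMod A (MvPolynomial (Fin N) A)) (i : ℕ) :
    Exact (((ofFlatFP S).d (i + 1)).lTensor (MvPolynomial (Fin N) κ)) (((ofFlatFP S).d i).lTensor (MvPolynomial (Fin N) κ)) := by
  have hex := (ofFlatFP (S.syz (i + 1))).exact_zero
  have h1 : Exact ((S.dLin (i + 1)).lTensor (MvPolynomial (Fin N) κ)) ((S.syz (i + 1)).aug.lTensor (MvPolynomial (Fin N) κ)) :=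
    lTensor_exact _ hex (S.syz (i + 1)).aug_surjective
  intro v
  show (S.dLin i).lTensor _ v = 0 ↔ v ∈ Set.range ((S.dLin (i + 1)).lTensor (MvPolynomial (Fin N) κ))
  rw [show S.dLin i = (S.syz i).incl ∘ₗ (S.syz (i + 1)).aug from rfl, LinearMap.lTensor_comp_apply]
  exact Iff.trans ⟨fun h => injective_incl_lTensor κ (S.syz i) (h.trans (map_zero _).symm),
    fun h => (congrArg _ h).trans (map_zero _)⟩ (h1 v)

end Poly

end GrothLib.AffRelExt22
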