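import Groth.Agent.Lib.LC.Compare
import Mathlib.Algebra.Category.ModuleCat.Projective
import Mathlib.Algebra.Category.ModuleCat.EpiMono
import Mathlib.Algebra.Homology.ShortComplex.ModuleCat
import Mathlib.CategoryTheory.Abelian.Projective.Resolution
import Mathlib

/-!
# Ext into the ring from a resolution by finite free modules
-/

set_option autoImplicit false
universe u

open CategoryTheory Abelian

namespace GrothLib.AffRelExt22

variable (Q : Type u) [CommRing Q] (M : Type u) [AddCommGroup M] [Module Q M]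

/-- A resolution by finite free modules. -/
structure FreeRes where
  rk : ℕ → ℕ
  d : ∀ i, (Fin (rk (i + 1)) → Q) →ₗ[Q] (Fin (rk i) → Q)
  ε : (Fin (rk 0) → Q) →ₗ[Q] M
  surj : Function.Surjective ε
  exact_zero : Function.Exact (d 0) ε
  exact_succ : ∀ i, Function.Exact (d (i + 1)) (d i)

variable {Q M}

/-- The transpose of a map of finite free modules. -/
noncomputable def tr {a b : ℕ} (f : (Fin a → Q) →ₗ[Q] (Fin b → Q)) : (Fin b → Q) →ₗ[Q] (Fin a → Q) :=
  LinearMap.pi fun k => Fintype.linearCombination Q (f (Pi.single k 1))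

theorem tr_apply {a b : ℕ} (f : (Fin a → Q) →ₗ[Q] (Fin b → Q)) (v : Fin b → Q) (k : Fin a) :
    tr f v k = ∑ i, v i * f (Pi.single k 1) i :=
  (Fintype.linearCombination_apply Q _ v).trans (by simp only [smul_eq_mul])

theorem lc_tr {a b : ℕ} (f : (Fin a → Q) →ₗ[Q] (Fin b → Q)) (v : Fin b → Q) :
    Fintype.linearCombination Q (tr f v) = Fintype.linearCombination Q v ∘ₗ f := by
  refine LinearMap.pi_ext' fun k => LinearMap.ext_ring ?_
  simp only [LinearMap.comp_apply, LinearMap.coe_single]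
  rw [Fintype.linearCombination_apply_single, one_smul, tr_apply, Fintype.linearCombination_apply]
  exact Finset.sum_congr rfl fun i _ => mul_comm _ _

theorem lc_injective {a : ℕ} {v w : Fin a → Q}
    (h : Fintype.linearCombination Q v = Fintype.linearCombination Q w) : v = w := by
  funext k
  have := LinearMap.congr_fun h (Pi.single k 1)
  simpa [Fintype.linearCombination_apply_single] using this

theorem exists_lc {a : ℕ} (g : (Fin a → Q) →ₗ[Q] Q) : ∃ v, g = Fintype.linearCombination Q v :=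
  ⟨fun k => g (Pi.single k 1), LinearMap.pi_ext' fun k => LinearMap.ext_ring (by
    simp [Fintype.linearCombination_apply_single])⟩

theorem lc_zero {a : ℕ} : Fintype.linearCombination Q (0 : Fin a → Q) = 0 :=
  LinearMap.ext fun x => by simp [Fintype.linearCombination_apply]

theorem lc_add {a : ℕ} (v w : Fin a → Q) :
    Fintype.linearCombination Q (v + w) = Fintype.linearCombination Q v + Fintype.linearCombination Q w :=
  LinearMap.ext fun x => by simp [Fintype.linearCombination_apply, mul_add, Finset.sum_add_distrib]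

theorem lc_smul {a : ℕ} (r : Q) (v : Fin a → Q) :
    Fintype.linearCombination Q (r • v) = r • Fintype.linearCombination Q v :=
  LinearMap.ext fun x => by simp [Fintype.linearCombination_apply, Finset.mul_sum, mul_left_comm]

namespace FreeRes

variable (R : FreeRes Q M)

theorem d_comp (i : ℕ) : R.d i ∘ₗ R.d (i + 1) = 0 :=
  LinearMap.ext fun v => (R.exact_succ i).apply_apply_eq_zero v

/-- The complex. -/
noncomputable def complex : ChainComplex (ModuleCat.{u} Q) ℕ :=
  ChainComplex.of (fun i => ModuleCat.of Q (Fin (R.rk i) → Q))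
    (fun i => ModuleCat.ofHom (R.d i)) fun i => ModuleCat.hom_ext (R.d_comp i)

theorem complex_d (i : ℕ) : R.complex.d (i + 1) i = ModuleCat.ofHom (R.d i) :=
  ChainComplex.of_d (fun i => ModuleCat.of Q (Fin (R.rk i) → Q))
    (fun i => ModuleCat.ofHom (R.d i)) i

theorem complex_d_ε :
    R.complex.d 1 0 ≫ (ModuleCat.ofHom R.ε : ModuleCat.of Q (Fin (R.rk 0) → Q) ⟶ _) = 0 := by
  rw [R.complex_d 0]
  exact ModuleCat.hom_ext (LinearMap.ext fun v => R.exact_zero.apply_apply_eq_zero _)

/-- The projective resolution. -/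
noncomputable def res : ProjectiveResolution (ModuleCat.of Q M) where
  complex := R.complex
  projective i := (IsProjective.iff_projective _).1
    (show Module.Projective Q (Fin (R.rk i) → Q) from inferInstance)
  π := (ChainComplex.toSingle₀Equiv _ _).symm ⟨ModuleCat.ofHom R.ε, R.complex_d_ε⟩
  quasiIso := ⟨fun i => by
    cases i with
    | zero =>
      rw [ChainComplex.quasiIsoAt₀_iff, ShortComplex.quasiIso_iff_of_zeros']
      · refine ⟨(ShortComplex.moduleCat_exact_iff _).2 fun v hv => ?_,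
          (ModuleCat.epi_iff_surjective _).2 ?_⟩
        · have hv' : R.ε v = 0 := by
            have h := hv
            simp [ChainComplex.toSingle₀Equiv_symm_apply_f_zero] at h
            exact h
          obtain ⟨w', hw⟩ := (R.exact_zero v).1 hv'
          refine ⟨w', ?_⟩
          show (R.complex.d 1 0).hom w' = v
          rw [R.complex_d 0]
          exact hw
        · intro x
          obtain ⟨v, hv⟩ := R.surj x
          refine ⟨v, ?_⟩
          simp [ChainComplex.toSingle₀Equiv_symm_apply_f_zero]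
          exact hv
      · exact R.complex.shape _ _ (by simp)
      · rfl
      · rfl
    | succ i =>
      rw [quasiIsoAt_iff_exactAt' _ _ (HomologicalComplex.exactAt_single_obj _ _ _ _ (by simp)),
        HomologicalComplex.exactAt_iff' _ (i + 1 + 1) (i + 1) i (by simp) (by simp)]
      refine (ShortComplex.moduleCat_exact_iff _).2 fun v hv => ?_
      have hv' : R.d i v = 0 := by
        have h : (R.complex.d (i + 1) i).hom v = 0 := hv
        rw [R.complex_d i] at h
        exact h
      obtain ⟨w', hw⟩ := (R.exact_succ i v).1 hv'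
      refine ⟨w', ?_⟩
      show (R.complex.d (i + 1 + 1) (i + 1)).hom w' = v
      rw [R.complex_d (i + 1)]
      exact hw⟩

/-- The dual differential. -/
noncomputable def δ (j : ℕ) : (Fin (R.rk j) → Q) →ₗ[Q] (Fin (R.rk (j + 1)) → Q) := tr (R.d j)

/-- The coboundaries. -/
noncomputable def cob : ∀ j : ℕ, Submodule Q (Fin (R.rk j) → Q)
  | 0 => ⊥
  | j + 1 => LinearMap.range (R.δ j)

theorem δ_comp (j : ℕ) : R.δ (j + 1) ∘ₗ R.δ j = 0 := by
  refine LinearMap.ext fun v => lc_injective ?_
  show Fintype.linearCombination Q (R.δ (j + 1) (R.δ j v)) = Fintype.linearCombination Q 0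
  rw [δ, δ, lc_tr, lc_tr, LinearMap.comp_assoc, R.d_comp, LinearMap.comp_zero, lc_zero]

theorem cob_le : ∀ j, R.cob j ≤ LinearMap.ker (R.δ j)
  | 0 => bot_le
  | j + 1 => fun _ ⟨v, hv⟩ => hv ▸ LinearMap.congr_fun (R.δ_comp j) v

theorem fg_cob : ∀ j, (R.cob j).FG
  | 0 => Submodule.fg_bot
  | j + 1 => Submodule.fg_range (R.δ j)

/-- The cochain as a morphism. -/
noncomputable def hom (j : ℕ) (v : Fin (R.rk j) → Q) : R.res.complex.X j ⟶ ModuleCat.of Q Q :=
  ModuleCat.ofHom (Fintype.linearCombination Q v)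

theorem d_hom (j : ℕ) (v : Fin (R.rk j) → Q) :
    R.res.complex.d (j + 1) j ≫ R.hom j v = R.hom (j + 1) (R.δ j v) := by
  show R.complex.d (j + 1) j ≫ ModuleCat.ofHom (Fintype.linearCombination Q v) = _
  rw [R.complex_d j]
  exact ModuleCat.hom_ext (lc_tr (R.d j) v).symm

theorem hom_zero (j : ℕ) : R.hom j 0 = 0 := ModuleCat.hom_ext (by
  show Fintype.linearCombination Q (0 : Fin (R.rk j) → Q) = 0
  exact lc_zero)

theorem hom_inj (j : ℕ) {v w : Fin (R.rk j) → Q} (h : R.hom j v = R.hom j w) : v = w :=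
  lc_injective (congrArg ModuleCat.Hom.hom h)

theorem hom_surj (j : ℕ) (f : R.res.complex.X j ⟶ ModuleCat.of Q Q) : ∃ v, f = R.hom j v := by
  obtain ⟨v, hv⟩ := exists_lc (Q := Q) f.hom
  exact ⟨v, ModuleCat.hom_ext hv⟩

theorem d_hom_eq_zero (j : ℕ) {v : Fin (R.rk j) → Q} (hv : v ∈ LinearMap.ker (R.δ j)) :
    R.res.complex.d (j + 1) j ≫ R.hom j v = 0 := by
  rw [R.d_hom, LinearMap.mem_ker.1 hv, R.hom_zero]

/-- Cocycles to Ext. -/
noncomputable def toExt (j : ℕ) :
    LinearMap.ker (R.δ j) →ₗ[Q] Ext (ModuleCat.of Q M) (ModuleCat.of Q Q) j where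
  toFun v := R.res.extMk (R.hom j v.1) (j + 1) rfl (R.d_hom_eq_zero j v.2)
  map_add' v w := by
    rw [ProjectiveResolution.add_extMk]
    congr 1
    exact ModuleCat.hom_ext (lc_add v.1 w.1)
  map_smul' r v := by
    rw [RingHom.id_apply, GrothLib.LC.smul_extMk]
    congr 1
    exact ModuleCat.hom_ext (lc_smul r v.1)

theorem toExt_surjective (j : ℕ) : Function.Surjective (R.toExt j) := by
  intro e
  obtain ⟨f, hf, rfl⟩ := R.res.extMk_surjective e (j + 1) rfl
  obtain ⟨v, rfl⟩ := R.hom_surj j f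
  refine ⟨⟨v, ?_⟩, rfl⟩
  rw [R.d_hom] at hf
  exact R.hom_inj (j + 1) (hf.trans (R.hom_zero _).symm)

theorem ker_toExt : ∀ j, LinearMap.ker (R.toExt j) = (R.cob j).comap (LinearMap.ker (R.δ j)).subtype
  | 0 => by
    ext v
    show R.res.extMk (R.hom 0 v.1) 1 rfl (R.d_hom_eq_zero 0 v.2) = 0 ↔ v.1 ∈ (⊥ : Submodule Q _)
    rw [GrothLib.LC.extMk_zero_eq_zero_iff, Submodule.mem_bot]
    exact ⟨fun h => R.hom_inj 0 (h.trans (R.hom_zero 0).symm), fun h => by rw [h, R.hom_zero]⟩
  | p + 1 => by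
    ext v
    show R.res.extMk (R.hom (p + 1) v.1) (p + 2) rfl (R.d_hom_eq_zero _ v.2) = 0 ↔ v.1 ∈ LinearMap.range (R.δ p)
    rw [R.res.extMk_eq_zero_iff _ (p + 2) rfl (R.d_hom_eq_zero _ v.2) p rfl]
    constructor
    · rintro ⟨g, hg⟩
      obtain ⟨w, rfl⟩ := R.hom_surj p g
      rw [R.d_hom] at hg
      exact ⟨w, R.hom_inj _ hg⟩
    · rintro ⟨w, hw⟩
      exact ⟨R.hom p w, by rw [R.d_hom, hw]⟩

theorem ker_le_cob_iff (j : ℕ) : LinearMap.ker (R.δ j) ≤ R.cob j ↔
    Subsingleton (Ext (ModuleCat.of Q M) (ModuleCat.of Q Q) j) := by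
  constructor
  · intro h
    refine subsingleton_of_forall_eq 0 fun e => ?_
    obtain ⟨v, rfl⟩ := R.toExt_surjective j e
    exact LinearMap.mem_ker.1 (by rw [R.ker_toExt]; exact h v.2)
  · intro h v hv
    have : (⟨v, hv⟩ : LinearMap.ker (R.δ j)) ∈ LinearMap.ker (R.toExt j) :=
      LinearMap.mem_ker.2 (Subsingleton.elim _ _)
    rw [R.ker_toExt] at this
    exact this

/-- The cokernel of the dual differentials. -/
abbrev coker (j : ℕ) := (Fin (R.rk j) → Q) ⧸ R.cob j

/-- The induced map out of a cokernel. -/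
noncomputable def u (j : ℕ) : R.coker j →ₗ[Q] (Fin (R.rk (j + 1)) → Q) :=
  (R.cob j).liftQ (R.δ j) (R.cob_le j)

theorem range_u (j : ℕ) : LinearMap.range (R.u j) = R.cob (j + 1) := Submodule.range_liftQ _ _ _

theorem injective_u_iff (j : ℕ) : Function.Injective (R.u j) ↔ LinearMap.ker (R.δ j) ≤ R.cob j := by
  rw [u, ← LinearMap.ker_eq_bot, Submodule.ker_liftQ, ← le_bot_iff, Submodule.map_le_iff_le_comap, Submodule.comap_bot, Submodule.ker_mkQ]

/-- The kernel of `u` is Ext. -/
noncomputable def kerEquiv (j : ℕ) :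
    LinearMap.ker (R.u j) ≃ₗ[Q] Ext (ModuleCat.of Q M) (ModuleCat.of Q Q) j :=
  let ψ : LinearMap.ker (R.δ j) →ₗ[Q] LinearMap.ker (R.u j) :=
    LinearMap.codRestrict _ ((R.cob j).mkQ ∘ₗ (LinearMap.ker (R.δ j)).subtype) fun v => v.2
  have hψ : Function.Surjective ψ := fun ⟨z, hz⟩ => by
    obtain ⟨v, rfl⟩ := (R.cob j).mkQ_surjective z
    exact ⟨⟨v, hz⟩, rfl⟩
  have hker : LinearMap.ker ψ = LinearMap.ker (R.toExt j) := by
    rw [R.ker_toExt, LinearMap.ker_codRestrict, LinearMap.ker_comp, Submodule.ker_mkQ]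
  ((ψ.quotKerEquivOfSurjective hψ).symm.trans (Submodule.quotEquivOfEq _ _ hker)).trans
    ((R.toExt j).quotKerEquivOfSurjective (R.toExt_surjective j))

end FreeRes

end GrothLib.AffRelExt22
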